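import Groth.Agent.H21.SepGen
import Mathlib

/-!
# A separably generated function field with the lifting property is retract rational
-/

set_option autoImplicit false
set_option linter.style.haveILetI false

universe u

open Polynomial

namespace Groth.Agent.H19.Retract.Alg

theorem exists_retraction (k B K : Type u) [Field k] [CommRing B] [IsDomain B] [Algebra k B]
    [Algebra.FiniteType k B] [Field K] [Algebra B K] [IsFractionRing B K] [Algebra k K] [IsScalarTower k B K]
    [Algebra.FormallySmooth k K]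
    (h : ∀ (A : Type u) [CommRing A] [IsDomain A] [IsDiscreteValuationRing A] [Algebra k A]
      (v : B →ₐ[k] IsLocalRing.ResidueField A), ∃ w : B →ₐ[k] A, ∀ x, IsLocalRing.residue A (w x) = v x) :
    ∃ (n : ℕ) (D : MvPolynomial (Fin n) k) (e : B) (a : Localization.Away D →ₐ[k] Localization.Away e)
      (b : Localization.Away e →ₐ[k] Localization.Away D), e ≠ 0 ∧ a.comp b = AlgHom.id k _ := by
  classical
  haveI : Algebra.EssFiniteType B K := Algebra.EssFiniteType.of_isLocalization K (nonZeroDivisors B)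
  haveI : Algebra.EssFiniteType k K := Algebra.EssFiniteType.comp k B K
  haveI : Algebra.IsGeometricallyReduced k K :=
    Groth.Agent.Lib.PBasis.FieldSmooth.formallySmooth_iff_isGeometricallyReduced.1 inferInstance
  obtain ⟨S, hS, hsep⟩ := Groth.Agent.H21.SepGen.exists_separatingBasis k K
  let L := IntermediateField.adjoin k (S : Set K)
  haveI : Algebra.IsSeparable L K := hsep
  haveI : Algebra.EssFiniteType L K := Algebra.EssFiniteType.of_comp k L K
  haveI : Module.Finite L K := Algebra.finite_of_essFiniteType_of_isAlgebraic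
  obtain ⟨α, hα⟩ := Field.exists_primitive_element L K
  have hαi : IsIntegral L α := IsIntegral.of_finite L α
  -- the discrete valuation ring
  let ev : Polynomial L →ₐ[L] K := Polynomial.aeval α
  have hev : Function.Surjective ev := by
    rw [← AlgHom.range_eq_top, ← Algebra.adjoin_singleton_eq_range_aeval,
      ← IntermediateField.adjoin_simple_toSubalgebra_of_isAlgebraic hαi.isAlgebraic, hα,
      IntermediateField.top_toSubalgebra]
  let q : Ideal (Polynomial L) := RingHom.ker ev.toRingHom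
  haveI : q.IsPrime := RingHom.ker_isPrime _
  have hq0 : q ≠ ⊥ := fun hq => minpoly.ne_zero hαi (by
    have hm : minpoly L α ∈ q := minpoly.aeval L α
    rwa [hq, Ideal.mem_bot] at hm)
  let A := Localization.AtPrime q
  haveI : IsDiscreteValuationRing A :=
    IsLocalization.AtPrime.isDiscreteValuationRing_of_dedekind_domain (Polynomial L) hq0 A
  have hunit : ∀ y : q.primeCompl, IsUnit ((ev.restrictScalars k) y.1) := fun y => isUnit_iff_ne_zero.2 y.2
  let π : A →ₐ[k] K := IsLocalization.liftAlgHom (M := q.primeCompl) (f := ev.restrictScalars k) hunit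
  have hπ' : ∀ x, π (algebraMap (Polynomial L) A x) = ev x := fun x => IsLocalization.lift_eq _ _
  have hπ : Function.Surjective π := fun y => by
    obtain ⟨x, rfl⟩ := hev y
    exact ⟨_, hπ' x⟩
  have hker : RingHom.ker π.toRingHom = IsLocalRing.maximalIdeal A :=
    IsLocalRing.eq_maximalIdeal (RingHom.ker_isMaximal_of_surjective π.toRingHom hπ)
  let ρ : A →ₐ[k] IsLocalRing.ResidueField A := IsScalarTower.toAlgHom k A (IsLocalRing.ResidueField A)
  have hρ : Function.Surjective ρ := IsLocalRing.residue_surjective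
  have hkerρ : ∀ x, ρ x = 0 ↔ π x = 0 := fun x => by
    rw [show π x = 0 ↔ x ∈ RingHom.ker π.toRingHom from Iff.rfl, hker]
    exact IsLocalRing.residue_eq_zero_iff x
  let eqv : IsLocalRing.ResidueField A ≃ₐ[k] K :=
    AlgEquiv.ofBijective (Ideal.Quotient.liftₐ (IsLocalRing.maximalIdeal A) π (fun x hx => by rw [← hker] at hx; exact hx))
      ⟨by
        rw [injective_iff_map_eq_zero]
        intro y hy
        obtain ⟨x, rfl⟩ := hρ y
        exact (hkerρ x).2 hy,
       fun y => by
        obtain ⟨x, rfl⟩ := hπ y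
        exact ⟨ρ x, rfl⟩⟩
  obtain ⟨φ, hφ⟩ := h A (eqv.symm.toAlgHom.comp (IsScalarTower.toAlgHom k B K))
  have hπφ : ∀ x, π (φ x) = algebraMap B K x := fun x => by
    have h1 := congrArg eqv (hφ x)
    simp only [AlgHom.comp_apply] at h1
    exact h1.trans (eqv.apply_symm_apply _)
  -- the polynomial ring
  let n := Fintype.card (Option S)
  let σ : Fin n ≃ Option S := (Fintype.equivFin (Option S)).symm
  let s₀ : MvPolynomial S k →ₐ[k] L := MvPolynomial.aeval fun x => (⟨x.1, IntermediateField.subset_adjoin k _ x.2⟩ : L)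
  have hs₀v : ∀ r, (s₀ r : K) = MvPolynomial.aeval (fun x : S => (x.1 : K)) r := fun r =>
    AlgHom.congr_fun (MvPolynomial.algHom_ext (f := L.val.comp s₀) (g := MvPolynomial.aeval fun x : S => (x.1 : K))
      fun i => by simp [s₀]) r
  have hs₀ : Function.Injective s₀ := fun r r' hr => hS.1 (by
    simpa [hs₀v] using congrArg (fun t : L => (t : K)) hr)
  let Φ₁ : MvPolynomial (Fin n) k →ₐ[k] Polynomial L :=
    (Polynomial.mapAlgHom s₀).comp
      ((MvPolynomial.optionEquivLeft k S).toAlgHom.comp (MvPolynomial.renameEquiv k σ).toAlgHom)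
  have hΦ₁ : Function.Injective Φ₁ :=
    (Polynomial.map_injective _ hs₀).comp ((MvPolynomial.optionEquivLeft k S).injective.comp (MvPolynomial.renameEquiv k σ).injective)
  let ψ : MvPolynomial (Fin n) k →ₐ[k] K := (ev.restrictScalars k).comp Φ₁
  have hfrac₁ : ∀ f : Polynomial L, ∃ p c : MvPolynomial (Fin n) k, ψ c ≠ 0 ∧ f * Φ₁ c = Φ₁ p := by
    intro f
    induction f using Polynomial.induction_on' with
    | add f g hf hg =>
      obtain ⟨p, c, hc, hf⟩ := hf
      obtain ⟨p', c', hc', hg⟩ := hg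
      refine ⟨p * c' + p' * c, c * c', by rw [map_mul]; exact mul_ne_zero hc hc', ?_⟩
      rw [map_add, map_mul, map_mul, map_mul, ← hf, ← hg]; ring
    | monomial m l =>
      obtain ⟨r, t, hrt⟩ := (IntermediateField.mem_adjoin_range_iff k (fun x : S => (x.1 : K)) (l : K)).1
        (by rw [Subtype.range_coe_subtype]; exact l.2)
      let toP : Polynomial (MvPolynomial S k) → MvPolynomial (Fin n) k := fun g =>
        (MvPolynomial.renameEquiv k σ).symm ((MvPolynomial.optionEquivLeft k S).symm g)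
      have htoP : ∀ g, Φ₁ (toP g) = g.map s₀.toRingHom := fun g => by simp [Φ₁, toP]
      by_cases ht : s₀ t = 0
      · refine ⟨0, 1, by simp, ?_⟩
        have hl : l = 0 := Subtype.ext (by
          rw [hrt, ← hs₀v, ← hs₀v, ht]; simp)
        simp [hl]
      · refine ⟨toP (Polynomial.monomial m r), toP (Polynomial.C t), ?_, ?_⟩
        · show ev (Φ₁ (toP (Polynomial.C t))) ≠ 0
          rw [htoP, Polynomial.map_C]
          show Polynomial.aeval α (Polynomial.C (s₀ t)) ≠ 0
          rw [Polynomial.aeval_C]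
          exact (_root_.map_ne_zero _).2 ht
        · rw [htoP, htoP, Polynomial.map_C, Polynomial.map_monomial, Polynomial.monomial_mul_C]
          congr 1
          apply Subtype.ext
          show (l : K) * (s₀ t : K) = (s₀ r : K)
          rw [hrt, ← hs₀v, ← hs₀v, div_mul_cancel₀]
          exact fun h0 => ht (Subtype.ext h0)
  let Φ : MvPolynomial (Fin n) k →ₐ[k] A := (IsScalarTower.toAlgHom k (Polynomial L) A).comp Φ₁
  have hΦ : Function.Injective Φ := (IsLocalization.injective A q.primeCompl_le_nonZeroDivisors).comp hΦ₁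
  have hψ : ∀ p, π (Φ p) = ψ p := fun p => hπ' _
  have hfrac : ∀ z : A, ∃ p c : MvPolynomial (Fin n) k, ψ c ≠ 0 ∧ z * Φ c = Φ p := by
    intro z
    obtain ⟨⟨f, g⟩, hz⟩ := IsLocalization.surj q.primeCompl z
    obtain ⟨p, c, hc, hf⟩ := hfrac₁ f
    obtain ⟨p', c', hc', hg⟩ := hfrac₁ g.1
    refine ⟨p * c', p' * c, ?_, ?_⟩
    · rw [map_mul]
      refine mul_ne_zero ?_ hc
      show ev (Φ₁ p') ≠ 0
      rw [← hg, map_mul]
      exact mul_ne_zero g.2 hc'
    · show z * algebraMap _ A (Φ₁ (p' * c)) = algebraMap _ A (Φ₁ (p * c'))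
      rw [map_mul Φ₁, map_mul Φ₁, ← hg, ← hf]
      simp only [map_mul]
      rw [← hz]; ring
  -- denominators
  obtain ⟨T, hT⟩ := (inferInstance : Algebra.FiniteType k B).out
  choose pn pd hpd hpn using fun t : B => hfrac (φ t)
  let D₀ := ∏ t ∈ T, pd t
  have hψD₀ : ψ D₀ ≠ 0 := by rw [map_prod]; exact Finset.prod_ne_zero_iff.2 fun t _ => hpd t
  have hunit₀ : ∀ y : Submonoid.powers D₀, IsUnit (Φ y.1) := by
    rintro ⟨_, m, rfl⟩
    rw [map_pow]
    refine IsUnit.pow m ?_
    by_contra hc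
    exact hψD₀ ((hψ D₀).symm.trans ((hker.ge ((IsLocalRing.mem_maximalIdeal _).2 hc)) : π.toRingHom (Φ D₀) = 0))
  let Φ₀ : Localization.Away D₀ →ₐ[k] A := IsLocalization.liftAlgHom (M := Submonoid.powers D₀) (f := Φ) hunit₀
  have hΦ₀' : ∀ p, Φ₀ (algebraMap _ _ p) = Φ p := fun p => IsLocalization.lift_eq _ _
  have hΦ₀ : Function.Injective Φ₀ := by
    show Function.Injective (IsLocalization.lift (M := Submonoid.powers D₀) hunit₀ : Localization.Away D₀ →+* A)
    rw [IsLocalization.lift_injective_iff]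
    intro x y
    refine ⟨fun hxy => congrArg Φ (?_ : x = y), fun hxy => congrArg _ (hΦ hxy)⟩
    exact IsLocalization.injective (Localization.Away D₀)
      (powers_le_nonZeroDivisors_of_noZeroDivisors (fun h0 : D₀ = 0 => hψD₀ (by rw [h0, map_zero]))) hxy
  have hrange : φ.range ≤ Φ₀.range := by
    rw [← Algebra.map_top, ← hT, AlgHom.map_adjoin, Algebra.adjoin_le_iff]
    rintro _ ⟨t, ht, rfl⟩
    refine ⟨algebraMap _ _ (pn t * ∏ t' ∈ T.erase t, pd t') * IsLocalization.Away.invSelf D₀, ?_⟩
    have hu : IsUnit (Φ D₀) := hunit₀ ⟨D₀, Submonoid.mem_powers _⟩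
    apply hu.mul_left_injective
    show Φ₀ _ * Φ D₀ = φ t * Φ D₀
    rw [← hΦ₀' D₀, ← map_mul, mul_assoc, mul_comm (IsLocalization.Away.invSelf D₀),
      IsLocalization.Away.mul_invSelf, mul_one, hΦ₀', hΦ₀', map_mul, ← hpn t, mul_assoc, ← map_mul]
    exact congrArg (fun d => φ t * Φ d) (Finset.mul_prod_erase T pd ht)
  let b₀ : B →ₐ[k] Localization.Away D₀ :=
    (AlgEquiv.ofInjective Φ₀ hΦ₀).symm.toAlgHom.comp ((Subalgebra.inclusion hrange).comp φ.rangeRestrict)
  have hb₀ : ∀ x, Φ₀ (b₀ x) = φ x := fun x =>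
    congrArg Subtype.val ((AlgEquiv.ofInjective Φ₀ hΦ₀).apply_symm_apply _)
  -- the open of the variety
  choose ni di hdi using fun y : K => IsFractionRing.div_surjective (A := B) y
  obtain ⟨i₁, i₂, hi₂, hi⟩ : ∃ i₁ i₂ : B, i₂ ≠ 0 ∧ algebraMap B K i₁ / algebraMap B K i₂ = ψ D₀ :=
    let ⟨x, y, hy, hxy⟩ := IsFractionRing.div_surjective (A := B) (ψ D₀)
    ⟨x, y, nonZeroDivisors.ne_zero hy, hxy⟩
  have hi₁ : i₁ ≠ 0 := fun h0 => hψD₀ (by rw [← hi, h0, map_zero, zero_div])
  let e : B := i₁ * i₂ * ∏ i : Fin n, di (ψ (MvPolynomial.X i))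
  have he : e ≠ 0 := mul_ne_zero (mul_ne_zero hi₁ hi₂)
    (Finset.prod_ne_zero_iff.2 fun i _ => nonZeroDivisors.ne_zero (hdi _).1)
  let Be := Localization.Away e
  have hue : ∀ y : Submonoid.powers e, IsUnit (IsScalarTower.toAlgHom k B K y.1) := fun y =>
    isUnit_iff_ne_zero.2 ((map_ne_zero_iff _ (IsFractionRing.injective B K)).2 (by
      obtain ⟨_, m, rfl⟩ := y; exact pow_ne_zero m he))
  let ιe : Be →ₐ[k] K := IsLocalization.liftAlgHom (M := Submonoid.powers e) (f := IsScalarTower.toAlgHom k B K) hue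
  have hιe' : ∀ x, ιe (algebraMap B Be x) = algebraMap B K x := fun x => IsLocalization.lift_eq _ _
  have hιe : Function.Injective ιe := by
    show Function.Injective (IsLocalization.lift (M := Submonoid.powers e) hue : Be →+* K)
    rw [IsLocalization.lift_injective_iff]
    intro x y
    exact ⟨fun hxy => congrArg (algebraMap B K)
      (IsLocalization.injective Be (powers_le_nonZeroDivisors_of_noZeroDivisors he) hxy),
      fun hxy => congrArg _ (IsFractionRing.injective B K hxy)⟩
  have hu : ∀ d : B, d ∣ e → IsUnit (algebraMap B Be d) := fun d hd =>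
    isUnit_of_dvd_unit (map_dvd _ hd) (IsLocalization.Away.algebraMap_isUnit e)
  have hlift : ∀ x y : B, y ∣ e → ∃ z : Be, ιe z = algebraMap B K x / algebraMap B K y := fun x y hy => by
    obtain ⟨w, hw⟩ := hu y hy
    refine ⟨algebraMap B Be x * ↑w⁻¹, ?_⟩
    rw [map_mul, hιe', map_units_inv, hw, hιe', div_eq_mul_inv]
  choose yi hyi using fun i : Fin n => hlift (ni (ψ (MvPolynomial.X i))) (di (ψ (MvPolynomial.X i)))
    ((Finset.dvd_prod_of_mem (fun i : Fin n => di (ψ (MvPolynomial.X i))) (Finset.mem_univ i)).trans (dvd_mul_left _ _))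
  let χ : MvPolynomial (Fin n) k →ₐ[k] Be := MvPolynomial.aeval yi
  have hχ : ∀ p, ιe (χ p) = ψ p := AlgHom.congr_fun (MvPolynomial.algHom_ext (f := ιe.comp χ) (g := ψ) fun i => by
    simp only [AlgHom.comp_apply, χ, MvPolynomial.aeval_X, hyi]
    exact (hdi _).2)
  have hχD₀ : IsUnit (χ D₀) := by
    obtain ⟨w, hw⟩ := hu i₂ ((dvd_mul_left i₂ i₁).trans (dvd_mul_right _ _))
    have : χ D₀ = algebraMap B Be i₁ * ↑w⁻¹ := hιe (by
      rw [hχ, ← hi, map_mul, hιe', map_units_inv, hw, hιe', div_eq_mul_inv])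
    rw [this]
    exact (hu i₁ ((dvd_mul_right i₁ i₂).trans (dvd_mul_right _ _))).mul (Units.isUnit _)
  obtain ⟨m, pe, hpe⟩ := IsLocalization.Away.surj D₀ (b₀ e)
  let D := D₀ * pe
  have key : ∀ x, π (Φ₀ (b₀ x)) = algebraMap B K x := fun x => by rw [hb₀, hπφ]
  have hχpe : IsUnit (χ pe) := by
    have : χ pe = algebraMap B Be e * χ D₀ ^ m := hιe (by
      have h1 := congrArg (fun t => π (Φ₀ t)) hpe
      simp only [map_mul, map_pow, key, hΦ₀', hψ] at h1
      rw [hχ, map_mul, map_pow, hχ, hιe', h1])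
    rw [this]
    exact (hu e dvd_rfl).mul (hχD₀.pow m)
  have hχD : ∀ y : Submonoid.powers D, IsUnit (χ y.1) := by
    rintro ⟨_, j, rfl⟩
    rw [map_pow]
    exact IsUnit.pow j (by rw [map_mul]; exact hχD₀.mul hχpe)
  let a : Localization.Away D →ₐ[k] Be := IsLocalization.liftAlgHom (M := Submonoid.powers D) (f := χ) hχD
  have ha : ∀ p, a (algebraMap _ _ p) = χ p := fun p => IsLocalization.lift_eq _ _
  have hDu : IsUnit (algebraMap (MvPolynomial (Fin n) k) (Localization.Away D) D₀) ∧
      IsUnit (algebraMap (MvPolynomial (Fin n) k) (Localization.Away D) pe) := by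
    have := IsLocalization.Away.algebraMap_isUnit D (S := Localization.Away D)
    rwa [show D = D₀ * pe from rfl, map_mul, IsUnit.mul_iff] at this
  have hDu₀ : ∀ y : Submonoid.powers D₀, IsUnit (IsScalarTower.toAlgHom k (MvPolynomial (Fin n) k) (Localization.Away D) y.1) := by
    rintro ⟨_, j, rfl⟩
    rw [map_pow]
    exact hDu.1.pow j
  let j : Localization.Away D₀ →ₐ[k] Localization.Away D :=
    IsLocalization.liftAlgHom (M := Submonoid.powers D₀) (f := IsScalarTower.toAlgHom k _ _) hDu₀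
  have hj : ∀ p, j (algebraMap _ _ p) = algebraMap _ _ p := fun p => IsLocalization.lift_eq _ _
  have hje : ∀ y : Submonoid.powers e, IsUnit ((j.comp b₀) y.1) := by
    rintro ⟨_, i, rfl⟩
    rw [map_pow]
    refine IsUnit.pow i ?_
    have h1 := congrArg j hpe
    rw [map_mul, map_pow, hj, hj] at h1
    rw [AlgHom.comp_apply]
    exact isUnit_of_mul_isUnit_left (h1 ▸ hDu.2)
  let b : Be →ₐ[k] Localization.Away D := IsLocalization.liftAlgHom (M := Submonoid.powers e) (f := j.comp b₀) hje
  refine ⟨n, D, e, a, b, he, ?_⟩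
  apply IsLocalization.algHom_ext (Submonoid.powers e)
  ext x
  apply hιe
  show ιe (a (b (algebraMap B Be x))) = ιe (algebraMap B Be x)
  rw [show b (algebraMap B Be x) = j (b₀ x) from IsLocalization.lift_eq _ _, hιe', ← key x]
  refine AlgHom.congr_fun (?_ : (ιe.comp a).comp j = π.comp Φ₀) (b₀ x)
  apply IsLocalization.algHom_ext (Submonoid.powers D₀)
  ext i
  show ιe (a (j (algebraMap _ _ (MvPolynomial.X i)))) = π (Φ₀ (algebraMap _ _ (MvPolynomial.X i)))
  rw [hj, ha, hχ, hΦ₀', hψ]

end Groth.Agent.H19.Retract.Alg
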